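import Cfsg.Agent.H795.TorCnt
import Cfsg.Agent.BpExc.AsmN_m3
import Cfsg.Agent.S0001
import Cfsg.Agent.BpExc.TowChev
import Cfsg.Agent.FastGrp
import Cfsg.Agent.Prune
set_option linter.all false
prune_inst 0x7f00000000000000000000000000000000000000000000000000000000000000000000000000000000000000000000000000000000000000000000000000000000000000000000000000000000000000003fffffffffffffffffffffffffffbeffbdffffffff
open scoped Cfsg.Agent.FastGrp

-- part: H197/Ab/TorFin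
section
/-!
# A toral subgroup of small index in an abelian `p'`-group (finite level)

`R : RGD cs h p T n X`, `Y` finite, `GG = ⊤`.

* `exists_conj_le_T'` : a subgroup of order prime to `p` fixing a chamber is conjugate into `T`;
* `exists_toral` : `A` abelian of order prime to `p`, the groups `C_{X a}(Z)`, `Z ⊆ T`, have order `1` modulo a
  large power of every prime divisor of `|A|`: there is `X₀ ≤ A` fixing a chamber with `|A : X₀|` dividing `|W|`.
-/

set_option autoImplicit false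
set_option linter.unusedSectionVars false

namespace Cfsg.Agent.H197.Ab.TorFin

open CoxeterSystem Cfsg.Agent.ChevalleyStructure.CoxeterGeom Cfsg.Agent.Tits.Roots Cfsg.Agent.Tits.Core
  Cfsg.Agent.Tits.RootComb Cfsg.Agent.Tits.Exchange Cfsg.Agent.Nodes.Reps Cfsg.Agent.Nodes.BNOf
  Cfsg.Agent.Nodes.Comb Cfsg.Agent.Nodes.BNOf.RGD Cfsg.Agent.Nodes.Unique Cfsg.Agent.Nodes.CardSup
  Cfsg.Agent.Nodes.StabComb Cfsg.Agent.Nodes.Bruhat Cfsg.Agent.Nodes.OppDec Cfsg.Agent.Nodes.LeviDec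
  Cfsg.Agent.Nodes.NormalForm Cfsg.Agent.KFacts.RgdOpp Cfsg.Agent.KFacts.RgdAut Cfsg.Agent.KFacts.RgdDiag
  Cfsg.Agent.KFacts.RgdRigid Cfsg.Agent.CpAut.RgdFix Cfsg.Agent.CpAut.RgdCoh Cfsg.Agent.CpAut.RgdConj
  Cfsg.Agent.BpExc.TorRgd Cfsg.Agent.H795.TorCnt
open scoped commutatorElement Pointwise

/-! ### groups -/

section Groups

/-- an orbit of small `l`-part -/
theorem exists_not_dvd_index {P Ω : Type*} [Group P] [Finite P] [MulAction P Ω] [Finite Ω] {m : ℕ}
    (h : ¬ m ∣ Nat.card Ω) : ∃ ω : Ω, ¬ m ∣ (MulAction.stabilizer P ω).index := by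
  classical
  by_contra hcon
  push Not at hcon
  apply h
  have := Fintype.ofFinite Ω
  have hfinq : Finite (Quotient (MulAction.orbitRel P Ω)) := inferInstance
  have := Fintype.ofFinite (Quotient (MulAction.orbitRel P Ω))
  rw [Nat.card_congr (MulAction.selfEquivSigmaOrbits P Ω), Nat.card_sigma]
  apply Finset.dvd_sum
  rintro ω -
  have h1 := hcon ω.out
  have h2 : (MulAction.stabilizer P ω.out).index = Nat.card (MulAction.orbit P ω.out) :=
    MulAction.index_stabilizer P ω.out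
  rw [h2] at h1
  exact h1

end Groups

variable {I W Y : Type*} [Fintype I] [DecidableEq I] [Group W] [Group Y] {M : CoxeterMatrix I}
  {cs : CoxeterSystem M W} {A : I → I → ℤ} {h : IsCartan M A} {p : ℕ} {T : Subgroup Y} {n : I → Y}
  {X : (I → ℤ) → Subgroup Y} (R : RGD cs h p T n X) [Finite Y] [Fact p.Prime]

include R

/-- **A `p'`-subgroup fixing a chamber is conjugate into `T`.** -/
theorem exists_conj_le_T' [Finite W] (hG : GG cs h T X = ⊤) {Q : Subgroup Y} (hQ : ¬ p ∣ Nat.card ↥Q)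
    {S : Sylow p Y} (hS : ∀ x ∈ Q, MulAut.conj x • S = S) : ∃ g : Y, ∀ x ∈ Q, g * x * g⁻¹ ∈ T := by
  classical
  obtain ⟨P, hP⟩ := exists_sylow_eq R hG
  obtain ⟨g₀, hg₀⟩ := MulAction.exists_smul_eq Y P S
  set B := RGD.B cs h T X with hB
  have hQB : ∀ x ∈ Q, g₀⁻¹ * x * g₀ ∈ B := by
    intro x hx
    rw [hB, ← smul_eq_iff_mem_B R hG hP, mul_smul, hg₀, mul_smul]
    have h1 : x • S = S := hS x hx
    rw [h1, ← hg₀, inv_smul_smul]
  set U := RGD.Sup X (RGD.Pos cs h) with hU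
  have hTB : T ≤ B := RGD.T_le_B
  have hUB : U ≤ B := RGD.U_le_B
  set Q' : Subgroup Y := Q.map (MulAut.conj g₀⁻¹).toMonoidHom with hQ'
  have hQ'B : Q' ≤ B := by
    rintro _ ⟨x, hx, rfl⟩
    show g₀⁻¹ * x * g₀⁻¹⁻¹ ∈ B
    rw [inv_inv]
    exact hQB x hx
  have hQ'c : Nat.card ↥Q' = Nat.card ↥Q :=
    Subgroup.card_map_of_injective (MulAut.conj g₀⁻¹).injective
  have hBn : B ≤ Subgroup.normalizer (U : Set Y) := R.B_le_normalizer_U
  have hUp : IsPGroup p ↥U := R.isPGroup_Upos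
  set G1 : Subgroup Y := U ⊔ Q' with hG1
  have hG1B : G1 ≤ B := sup_le hUB hQ'B
  have hUG : U ≤ G1 := le_sup_left
  have hQG : Q' ≤ G1 := le_sup_right
  have hN : (U.subgroupOf G1).Normal := by
    rw [Subgroup.normal_subgroupOf_iff_le_normalizer hUG]
    exact hG1B.trans hBn
  have hmemG1 : ∀ x ∈ G1, ∃ u ∈ U, ∃ y ∈ Q', x = u * y := by
    intro x hx
    have h1 : x ∈ ((U ⊔ Q' : Subgroup Y) : Set Y) := hx
    rw [Subgroup.coe_mul_of_right_le_normalizer_left _ _ (hQ'B.trans hBn), Set.mem_mul] at h1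
    obtain ⟨u, hu, y, hy, e⟩ := h1
    exact ⟨u, hu, y, hy, e.symm⟩
  have hdisj : ∀ x ∈ U, x ∈ Q' → x = 1 := by
    intro x hx hx'
    obtain ⟨j, hj⟩ := hUp ⟨x, hx⟩
    have h1 : x ^ p ^ j = 1 := congrArg Subtype.val hj
    have h2 : orderOf x ∣ p ^ j := orderOf_dvd_of_pow_eq_one h1
    have h3 : orderOf x ∣ Nat.card ↥Q' := by
      have := orderOf_dvd_natCard (⟨x, hx'⟩ : ↥Q')
      rwa [Subgroup.orderOf_mk] at this
    have h4 : Nat.Coprime (p ^ j) (Nat.card ↥Q') := by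
      rw [hQ'c]
      exact Nat.Coprime.pow_left _ ((Nat.Prime.coprime_iff_not_dvd Fact.out).2 hQ)
    exact orderOf_eq_one_iff.1 (Nat.eq_one_of_dvd_coprimes h4 h2 h3)
  have hc1 : Subgroup.IsComplement' (U.subgroupOf G1) (Q'.subgroupOf G1) := by
    apply Subgroup.isComplement'_of_disjoint_and_mul_eq_univ
    · rw [Subgroup.disjoint_def]
      rintro x hx1 hx2
      exact Subtype.ext (hdisj x hx1 hx2)
    · rw [Set.eq_univ_iff_forall]
      rintro ⟨x, hx⟩
      obtain ⟨u, hu, y, hy, e⟩ := hmemG1 x hx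
      exact ⟨⟨u, hUG hu⟩, hu, ⟨y, hQG hy⟩, hy, Subtype.ext e.symm⟩
  have hc2 : Subgroup.IsComplement' (U.subgroupOf G1) (T.subgroupOf G1) := by
    apply Subgroup.isComplement'_of_disjoint_and_mul_eq_univ
    · rw [Subgroup.disjoint_def]
      rintro x hx1 hx2
      have h1 : (x : Y) ∈ RGD.Sup X (RGD.Pos cs h) ⊓ T := ⟨hx1, hx2⟩
      rw [U_inf_T R, Subgroup.mem_bot] at h1
      exact Subtype.ext h1
    · rw [Set.eq_univ_iff_forall]
      rintro ⟨x, hx⟩
      obtain ⟨t, ht, u, hu, e⟩ := R.mem_B.1 (hG1B hx)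
      have e' : x = (t * u * t⁻¹) * t := by rw [e]; group
      have hu' : t * u * t⁻¹ ∈ U := (Subgroup.mem_normalizer_iff.1 (hBn (hTB ht)) u).1 hu
      have htG : t ∈ G1 := by
        have h2 : t = (t * u * t⁻¹)⁻¹ * x := by rw [e']; group
        rw [h2]
        exact mul_mem (inv_mem (hUG hu')) hx
      exact ⟨⟨t * u * t⁻¹, hUG hu'⟩, hu', ⟨t, htG⟩, ht, Subtype.ext e'.symm⟩
  have hcop : (Nat.card ↥(U.subgroupOf G1)).Coprime (U.subgroupOf G1).index := by
    rw [hc1.symm.index_eq_card]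
    obtain ⟨j, hj⟩ := IsPGroup.iff_card.1 (hUp.comap_of_injective G1.subtype G1.subtype_injective)
    have hj' : Nat.card ↥(U.subgroupOf G1) = p ^ j := hj
    have h2 : Nat.card ↥(Q'.subgroupOf G1) = Nat.card ↥Q' :=
      Nat.card_congr (Subgroup.subgroupOfEquivOfLe hQG).toEquiv
    rw [hj', h2, hQ'c]
    exact Nat.Coprime.pow_left _ ((Nat.Prime.coprime_iff_not_dvd Fact.out).2 hQ)
  have hsol : Group.IsSolvable ↥(U.subgroupOf G1) := by
    have h1 : IsPGroup p ↥(U.subgroupOf G1) := hUp.comap_of_injective G1.subtype G1.subtype_injective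
    have := h1.isNilpotent
    infer_instance
  obtain ⟨g, hg⟩ := S0001.result (U.subgroupOf G1) hcop (Or.inl hsol) _ _ hc1 hc2
  refine ⟨(g : Y) * g₀⁻¹, fun x hx => ?_⟩
  have h1 : g₀⁻¹ * x * g₀ ∈ Q' := ⟨x, hx, by
    show g₀⁻¹ * x * g₀⁻¹⁻¹ = _
    rw [inv_inv]⟩
  have h2 : g * ⟨g₀⁻¹ * x * g₀, hQG h1⟩ * g⁻¹ ∈ T.subgroupOf G1 := by
    rw [← hg]
    exact ⟨⟨g₀⁻¹ * x * g₀, hQG h1⟩, h1, rfl⟩
  have h3 : (g : Y) * (g₀⁻¹ * x * g₀) * (g : Y)⁻¹ ∈ T := h2
  have e : (g : Y) * g₀⁻¹ * x * ((g : Y) * g₀⁻¹)⁻¹ = (g : Y) * (g₀⁻¹ * x * g₀) * (g : Y)⁻¹ := by group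
  rw [e]
  exact h3

/-- the number of chambers fixed by a `p'`-subgroup which fixes a chamber -/
theorem card_fix [Finite W] (hG : GG cs h T X = ⊤) {Q : Subgroup Y} (hQ : ¬ p ∣ Nat.card ↥Q)
    {S : Sylow p Y} (hS : ∀ x ∈ Q, x • S = S) {m : ℕ}
    (hk : ∀ Z ⊆ (T : Set Y), ∀ a, IsRoot cs h a → Nat.card ↥(X a ⊓ Subgroup.centralizer Z) ≡ 1 [MOD m]) :
    Nat.card {S : Sylow p Y // ∀ x ∈ Q, x • S = S} ≡ Nat.card W [MOD m] := by
  classical
  obtain ⟨y, hy⟩ := exists_conj_le_T' R hG hQ hS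
  set Z : Set Y := {t | ∃ x ∈ Q, t = y * x * y⁻¹} with hZ
  have hZT : Z ⊆ (T : Set Y) := by
    rintro _ ⟨x, hx, rfl⟩
    exact hy x hx
  have h1 := card_sylowZ_modEq R hG (B := MulAut.conj '' Z) (by
    rintro _ ⟨t, ht, rfl⟩
    exact H944.TorAny.diag_conj_T R (hZT ht)) (k := m) (by
    intro a ha
    have h2 : X a ⊓ FB (MulAut.conj '' Z) = X a ⊓ Subgroup.centralizer Z := by
      congr 1
      ext z
      rw [mem_FB, Subgroup.mem_centralizer_iff]
      constructor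
      · intro h3 t ht
        have h4 := h3 _ ⟨t, ht, rfl⟩
        rw [MulAut.conj_apply, mul_inv_eq_iff_eq_mul] at h4
        exact h4
      · rintro h3 _ ⟨t, ht, rfl⟩
        rw [MulAut.conj_apply, mul_inv_eq_iff_eq_mul]
        exact h3 t ht
    rw [h2]
    exact hk Z hZT a ha)
  rw [← Nat.card_congr (?_ : {S : Sylow p Y // ∀ x ∈ Q, x • S = S} ≃
    {S : Sylow p Y // ∀ β ∈ MulAut.conj '' Z, β • S = S})] at h1
  · exact h1
  · refine ⟨fun S => ⟨y • S.1, ?_⟩, fun S => ⟨y⁻¹ • S.1, ?_⟩, fun S => Subtype.ext (inv_smul_smul _ _),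
      fun S => Subtype.ext (smul_inv_smul _ _)⟩
    · rintro _ ⟨_, ⟨x, hx, rfl⟩, rfl⟩
      show (y * x * y⁻¹) • y • S.1 = y • S.1
      rw [mul_smul, mul_smul, inv_smul_smul, S.2 x hx]
    · intro x hx
      have h3 : (y * x * y⁻¹) • S.1 = S.1 := S.2 _ ⟨_, ⟨x, hx, rfl⟩, rfl⟩
      rw [mul_smul, mul_smul] at h3
      rw [eq_inv_smul_iff]
      exact h3

/-- **One prime.** -/
theorem exists_step [Finite W] (hG : GG cs h T X = ⊤) {Q : Subgroup Y} (hQ : ¬ p ∣ Nat.card ↥Q)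
    {S : Sylow p Y} (hS : ∀ x ∈ Q, x • S = S) {l : ℕ} (hl : l.Prime) {P : Subgroup Y} (hP : IsPGroup l ↥P)
    (hPQ : ∀ x ∈ P, ∀ y ∈ Q, x * y = y * x)
    (hk : ∀ Z ⊆ (T : Set Y), ∀ a, IsRoot cs h a →
      Nat.card ↥(X a ⊓ Subgroup.centralizer Z) ≡ 1 [MOD l ^ ((Nat.card W).factorization l + 1)]) :
    ∃ (P₀ : Subgroup Y) (S' : Sylow p Y) (m : ℕ), P₀ ≤ P ∧ (∀ x ∈ Q, x • S' = S') ∧ (∀ x ∈ P₀, x • S' = S') ∧
      Nat.card ↥P = Nat.card ↥P₀ * m ∧ m ∣ Nat.card W := by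
  classical
  have hfl : Fact l.Prime := ⟨hl⟩
  have h1 := card_fix R hG hQ hS hk
  let _ : MulAction ↥P {S : Sylow p Y // ∀ x ∈ Q, x • S = S} :=
    { smul := fun g S => ⟨(g : Y) • S.1, fun x hx => by
        have h2 := hPQ g g.2 x hx
        rw [← mul_smul, ← h2, mul_smul, S.2 x hx]⟩
      one_smul := fun S => Subtype.ext (one_smul Y S.1)
      mul_smul := fun g g' S => Subtype.ext (mul_smul (g : Y) (g' : Y) S.1) }
  have hsm : ∀ (g : ↥P) (S : {S : Sylow p Y // ∀ x ∈ Q, x • S = S}), (g • S).1 = (g : Y) • S.1 := fun _ _ => rfl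
  have hW0 : Nat.card W ≠ 0 := Nat.card_pos.ne'
  have hnd : ¬ l ^ ((Nat.card W).factorization l + 1) ∣ Nat.card {S : Sylow p Y // ∀ x ∈ Q, x • S = S} := by
    intro hd
    have h2 : l ^ ((Nat.card W).factorization l + 1) ∣ Nat.card W :=
      Nat.modEq_zero_iff_dvd.1 (h1.symm.trans (Nat.modEq_zero_iff_dvd.2 hd))
    exact Nat.pow_succ_factorization_not_dvd hW0 hl h2
  obtain ⟨ω, hω⟩ := exists_not_dvd_index (P := ↥P) hnd
  obtain ⟨c, hc⟩ := hP.index (MulAction.stabilizer ↥P ω)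
  have hcle : c ≤ (Nat.card W).factorization l := by
    by_contra hcon
    push Not at hcon
    apply hω
    rw [hc]
    exact pow_dvd_pow l hcon
  refine ⟨(MulAction.stabilizer ↥P ω).map P.subtype, ω.1, l ^ c, ?_, ω.2, ?_, ?_, ?_⟩
  · rintro _ ⟨x, -, rfl⟩
    exact x.2
  · rintro _ ⟨x, hx, rfl⟩
    have h2 : x • ω = ω := MulAction.mem_stabilizer_iff.1 hx
    have h3 := congrArg Subtype.val h2
    rw [hsm] at h3
    exact h3
  · rw [Subgroup.card_map_of_injective P.subtype_injective, ← hc, Subgroup.card_mul_index]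
  · exact (pow_dvd_pow l hcle).trans (Nat.ordProj_dvd _ _)

/-- **A toral subgroup of small index.** -/
theorem exists_toral [Finite W] (hG : GG cs h T X = ⊤) :
    ∀ (N : ℕ) (B : Subgroup Y), Nat.card ↥B = N → (∀ x ∈ B, ∀ y ∈ B, x * y = y * x) → ¬ p ∣ N →
    (∀ l, l.Prime → l ∣ N → ∀ Z ⊆ (T : Set Y), ∀ a, IsRoot cs h a →
      Nat.card ↥(X a ⊓ Subgroup.centralizer Z) ≡ 1 [MOD l ^ ((Nat.card W).factorization l + 1)]) →
    ∃ (B₀ : Subgroup Y) (S : Sylow p Y) (m : ℕ), B₀ ≤ B ∧ (∀ x ∈ B₀, x • S = S) ∧ N = Nat.card ↥B₀ * m ∧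
      m ∣ Nat.card W := by
  classical
  intro N
  induction N using Nat.strong_induction_on with
  | _ N ih =>
  intro B hB hcomm hpN hk
  have hN0 : N ≠ 0 := hB ▸ Nat.card_pos.ne'
  by_cases hN1 : N = 1
  · obtain ⟨P, hP⟩ := exists_sylow_eq R hG
    refine ⟨⊥, P, 1, bot_le, ?_, ?_, one_dvd _⟩
    · intro x hx
      rw [Subgroup.mem_bot.1 hx, one_smul]
    · rw [Subgroup.card_bot, hN1]
  set l := N.minFac with hldef
  have hl : l.Prime := Nat.minFac_prime hN1
  have hfl : Fact l.Prime := ⟨hl⟩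
  have hlN : l ∣ N := Nat.minFac_dvd N
  set a := N.factorization l with hadef
  set m := N / l ^ a with hmdef
  have hN : N = l ^ a * m := (Nat.ordProj_mul_ordCompl_eq_self N l).symm
  have hlm : ¬ l ∣ m := Nat.not_dvd_ordCompl hl hN0
  have hcop : Nat.Coprime (l ^ a) m := Nat.Coprime.pow_left _ ((Nat.Prime.coprime_iff_not_dvd hl).2 hlm)
  have ha : 0 < a := hl.factorization_pos_of_dvd hN0 hlN
  -- the two factors
  let E : ℕ → Subgroup Y := fun d =>
    { carrier := {x | x ∈ B ∧ x ^ d = 1}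
      one_mem' := ⟨one_mem _, one_pow _⟩
      mul_mem' := fun {x y} hx hy => ⟨mul_mem hx.1 hy.1, by
        have h1 : Commute x y := hcomm x hx.1 y hy.1
        rw [h1.mul_pow, hx.2, hy.2, one_mul]⟩
      inv_mem' := fun {x} hx => ⟨inv_mem hx.1, by rw [inv_pow, hx.2, inv_one]⟩ }
  have hE : ∀ d x, x ∈ E d ↔ x ∈ B ∧ x ^ d = 1 := fun _ _ => Iff.rfl
  have hBpow : ∀ x ∈ B, x ^ N = 1 := by
    intro x hx
    have h1 := pow_card_eq_one' (x := (⟨x, hx⟩ : ↥B))
    rw [hB] at h1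
    exact congrArg Subtype.val h1
  -- the orders of the factors
  have hPl : IsPGroup l ↥(E (l ^ a)) := by
    intro x
    exact ⟨a, Subtype.ext x.2.2⟩
  have hCl : ¬ l ∣ Nat.card ↥(E m) := by
    intro hd
    obtain ⟨x, hx⟩ := exists_prime_orderOf_dvd_card' l hd
    have h1 : x ^ m = 1 := Subtype.ext x.2.2
    exact hlm (hx ▸ orderOf_dvd_of_pow_eq_one h1)
  have hcopE : Nat.Coprime (Nat.card ↥(E (l ^ a))) (Nat.card ↥(E m)) := by
    obtain ⟨j, hj⟩ := IsPGroup.iff_card.1 hPl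
    rw [hj]
    exact Nat.Coprime.pow_left _ ((Nat.Prime.coprime_iff_not_dvd hl).2 hCl)
  -- products of commuting subgroups of coprime orders
  have hprod : ∀ (P₁ P₂ : Subgroup Y), P₁ ≤ B → P₂ ≤ B → Nat.Coprime (Nat.card ↥P₁) (Nat.card ↥P₂) →
      Nat.card ↥(P₁ ⊔ P₂) = Nat.card ↥P₁ * Nat.card ↥P₂ := by
    intro P₁ P₂ h1 h2 h3
    have hd : P₁ ⊓ P₂ = ⊥ := (Subgroup.disjoint_of_coprime_natCard h3).eq_bot
    have hmap : Nat.card ↥(P₁ ⊔ P₂) = Nat.card (↥P₁ × ↥P₂) := by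
      symm
      refine Nat.card_congr (Equiv.ofBijective (fun q => ⟨(q.1 : Y) * q.2,
        mul_mem ((le_sup_left : P₁ ≤ P₁ ⊔ P₂) q.1.2) ((le_sup_right : P₂ ≤ P₁ ⊔ P₂) q.2.2)⟩) ⟨?_, ?_⟩)
      · rintro ⟨x, y⟩ ⟨x', y'⟩ e
        have e1 : (x : Y) * y = x' * y' := congrArg Subtype.val e
        have e2 : (x' : Y)⁻¹ * x = y' * (y : Y)⁻¹ := by
          rw [eq_mul_inv_iff_mul_eq, mul_assoc, e1]; group
        have h4a : (x' : Y)⁻¹ * x ∈ P₁ := P₁.mul_mem (P₁.inv_mem x'.2) x.2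
        have h4b : (x' : Y)⁻¹ * x ∈ P₂ := by rw [e2]; exact P₂.mul_mem y'.2 (P₂.inv_mem y.2)
        have h4 : (x' : Y)⁻¹ * x ∈ P₁ ⊓ P₂ := Subgroup.mem_inf.2 ⟨h4a, h4b⟩
        rw [hd, Subgroup.mem_bot] at h4
        have h5 : (x : Y) = x' := by rw [inv_mul_eq_one] at h4; exact h4.symm
        have h6 : (y : Y) = y' := by rw [h5] at e1; exact mul_left_cancel e1
        rw [Subtype.ext h5, Subtype.ext h6]
      · rintro ⟨z, hz⟩
        have hle : P₂ ≤ Subgroup.normalizer (P₁ : Set Y) := by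
          intro y hy
          rw [Subgroup.mem_normalizer_iff]
          intro x
          have key : ∀ x ∈ P₁, y * x * y⁻¹ = x := by
            intro x hx
            rw [hcomm y (h2 hy) x (h1 hx), mul_inv_cancel_right]
          constructor
          · intro hx
            rw [key x hx]; exact hx
          · intro hx
            have h7 := key _ hx
            have h8 : x = y⁻¹ * (y * x * y⁻¹) * y := by group
            have h9 : y⁻¹ * (y * x * y⁻¹) * y = y * x * y⁻¹ := by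
              rw [← hcomm _ (h1 hx) _ (inv_mem (h2 hy)), inv_mul_cancel_right]
            rw [h8, h9]; exact hx
        have hz' : z ∈ ((P₁ ⊔ P₂ : Subgroup Y) : Set Y) := hz
        rw [Subgroup.coe_mul_of_right_le_normalizer_left _ _ hle, Set.mem_mul] at hz'
        obtain ⟨x, hx, y, hy, e⟩ := hz'
        exact ⟨⟨⟨x, hx⟩, ⟨y, hy⟩⟩, Subtype.ext e⟩
    rw [hmap, Nat.card_prod]
  have hsup : E m ⊔ E (l ^ a) = B := by
    apply le_antisymm
    · exact sup_le (fun x hx => hx.1) (fun x hx => hx.1)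
    · intro x hx
      -- Bezout
      have hb := Nat.gcd_eq_gcd_ab (l ^ a) m
      rw [hcop.gcd_eq_one] at hb
      set u := (l ^ a).gcdA m
      set v := (l ^ a).gcdB m
      have e : x = x ^ ((l ^ a : ℕ) * u) * x ^ ((m : ℤ) * v) := by
        rw [← zpow_add, ← hb, Nat.cast_one, zpow_one]
      rw [e]
      refine mul_mem ((le_sup_left : E m ≤ _) ⟨zpow_mem hx _, ?_⟩) ((le_sup_right : E (l ^ a) ≤ _) ⟨zpow_mem hx _, ?_⟩)
      · rw [← zpow_natCast, ← zpow_mul]
        have e2 : ((l ^ a : ℕ) : ℤ) * u * (m : ℤ) = (N : ℤ) * u := by rw [hN]; push_cast; ring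
        rw [e2, zpow_mul, zpow_natCast, hBpow x hx, one_zpow]
      · rw [← zpow_natCast, ← zpow_mul]
        have e2 : (m : ℤ) * v * ((l ^ a : ℕ) : ℤ) = (N : ℤ) * v := by rw [hN]; push_cast; ring
        rw [e2, zpow_mul, zpow_natCast, hBpow x hx, one_zpow]
  have hcardB : N = Nat.card ↥(E m) * Nat.card ↥(E (l ^ a)) := by
    rw [← hB, ← hsup]
    exact hprod _ _ (fun x hx => hx.1) (fun x hx => hx.1) hcopE.symm
  have hPne : Nat.card ↥(E (l ^ a)) ≠ 1 := by
    intro h1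
    rw [h1, mul_one] at hcardB
    exact hCl (hcardB ▸ hlN)
  have hCpos : 0 < Nat.card ↥(E m) := Nat.card_pos
  have hPpos : 0 < Nat.card ↥(E (l ^ a)) := Nat.card_pos
  have hlt : Nat.card ↥(E m) < N := by
    rw [hcardB]
    exact lt_mul_of_one_lt_right hCpos (by omega)
  have hCN : Nat.card ↥(E m) ∣ N := Dvd.intro _ hcardB.symm
  obtain ⟨B₁, S₁, m₁, hB1, hS1, hm1, hm1W⟩ := ih _ hlt (E m) rfl
    (fun x hx y hy => hcomm x hx.1 y hy.1) (fun hd => hpN (hd.trans hCN))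
    (fun q hq hqd => hk q hq (hqd.trans hCN))
  have hB1p : ¬ p ∣ Nat.card ↥B₁ := fun hd => hpN ((hd.trans (Dvd.intro _ hm1.symm)).trans hCN)
  obtain ⟨P₀, S', m₂, hP0, hS'Q, hS'P, hm2, hm2W⟩ := exists_step R hG hB1p hS1 hl hPl
    (fun x hx y hy => hcomm x hx.1 y (hB1 hy).1) (hk l hl hlN)
  have hcop2 : Nat.Coprime (Nat.card ↥B₁) (Nat.card ↥P₀) :=
    Nat.Coprime.coprime_dvd_left (Dvd.intro _ hm1.symm)
      (Nat.Coprime.coprime_dvd_right (Dvd.intro _ hm2.symm) hcopE.symm)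
  have hcop3 : Nat.Coprime m₁ m₂ :=
    Nat.Coprime.coprime_dvd_left (Dvd.intro_left _ hm1.symm)
      (Nat.Coprime.coprime_dvd_right (Dvd.intro_left _ hm2.symm) hcopE.symm)
  have hB1B : B₁ ≤ B := hB1.trans fun x hx => hx.1
  have hP0B : P₀ ≤ B := hP0.trans fun x hx => hx.1
  refine ⟨B₁ ⊔ P₀, S', m₁ * m₂, sup_le hB1B hP0B, ?_, ?_, hcop3.mul_dvd_of_dvd_of_dvd hm1W hm2W⟩
  · have h1 : B₁ ⊔ P₀ ≤ MulAction.stabilizer Y S' := by
      refine sup_le (fun x hx => ?_) (fun x hx => ?_)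
      · exact MulAction.mem_stabilizer_iff.2 (hS'Q x hx)
      · exact MulAction.mem_stabilizer_iff.2 (hS'P x hx)
    intro x hx
    exact MulAction.mem_stabilizer_iff.1 (h1 hx)
  · rw [hprod _ _ hB1B hP0B hcop2, hcardB, hm1, hm2]
    ring

end Cfsg.Agent.H197.Ab.TorFin
end

-- part: H197/Ab/TorLift
section
/-!
# A toral subgroup of small index in an abelian `r'`-group of `D.group k`

* `hAlg_of_locFin`;
* `exists_toral_k` : `B ≤ D.group k` finite, abelian, of order prime to the characteristic: there is `B₀ ≤ B`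
  conjugate into the torus with `|B : B₀|` dividing `|W|`.
-/

set_option autoImplicit false
set_option linter.unusedSectionVars false

namespace Cfsg.Agent.H197.Ab.TorLift

open CoxeterSystem Cfsg.Agent.ChevalleyStructure.CoxeterGeom Cfsg.Agent.Tits.Roots Cfsg.Agent.Tits.Core
  Cfsg.Agent.Nodes.Reps Cfsg.Agent.Nodes.BNOf Cfsg.Agent.Nodes.Bruhat
  Cfsg.Agent.Nodes.OppDec Cfsg.Agent.Nodes.RGDChev
  Cfsg.Agent.KFacts.RgdAut Cfsg.Agent.KFacts.RgdDiag Cfsg.Agent.KFacts.RgdRigid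
  Cfsg.Agent.KFacts.RgdField Cfsg.Agent.KFacts.RgdChevCoord
  Cfsg.Agent.CpAut.RgdFix Cfsg.Agent.CpAut.RgdSub
open Cfsg.Lie Cfsg.Agent.ChevalleyStructure Cfsg.Agent.ChevalleyStructure.Elts
  Cfsg.Agent.ChevalleyStructure.NPerm Cfsg.Agent.ChevalleyStructure.CoxeterGeomTypes
  Cfsg.Agent.ChevStructure.FieldMap Cfsg.Agent.BpExc.TorRgd Cfsg.Agent.BpExc.TorAll Cfsg.Agent.BpExc
  Cfsg.Agent.H944.TorAny Cfsg.Agent.BpExc.TowChev

universe u

theorem hAlg_of_locFin {k : Type u} [Field k] {r : ℕ} [Fact r.Prime] [CharP k r] (hk : LocFin k) : HAlg r k := by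
  intro a
  obtain ⟨E, hE, hS⟩ := hk {a} (Set.finite_singleton a)
  have := Fintype.ofFinite ↥E
  have : CharP ↥E r := by
    have h1 : Function.Injective (E.subtype) := E.subtype_injective
    exact (RingHom.charP_iff _ h1 r).2 inferInstance
  obtain ⟨n, -, hn⟩ := FiniteField.card ↥E r
  refine ⟨n, n.pos, ?_⟩
  have h2 := FiniteField.pow_card (⟨a, hS rfl⟩ : ↥E)
  rw [hn] at h2
  exact congrArg Subtype.val h2

variable {D : ChevalleyDatum} {l : ℕ} {M : CoxeterMatrix (Fin l)} (hp : IsType D l M)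
  (p : ℕ) [Fact p.Prime]

section Fin

variable {K : Type u} [Field K] [Finite K] [CharP K p] {W : Type*} [Group W] (cs : CoxeterSystem M W)

include p in
/-- the centraliser of a set of torus elements in a root group -/
theorem card_root_centralizer {Z : Set ↥(D.group K)} (hZ : Z ⊆ (TT D K : Set ↥(D.group K))) {a : Fin l → ℤ}
    (ha : IsRoot cs hp.isCartan a) : Nat.card ↥(XX D l K a ⊓ Subgroup.centralizer Z) = 1 ∨
      Nat.card ↥(XX D l K a ⊓ Subgroup.centralizer Z) = Nat.card K := by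
  classical
  have C := coords (K := K) hp cs p
  obtain ⟨r, hr, rfl⟩ := (isRoot_iff hp cs a).1 ha
  have hinj := (C.coord _ ha).inj
  have hmem := (C.coord _ ha).mem
  by_cases hall : ∀ t ∈ Z, ch hp (vec D l r) t = 1
  · right
    have h1 : XX D l K (vec D l r) ⊓ Subgroup.centralizer Z = XX D l K (vec D l r) := by
      rw [inf_eq_left]
      intro x hx
      obtain ⟨b, rfl⟩ := (hmem x).1 hx
      rw [Subgroup.mem_centralizer_iff]
      intro t ht
      have h2 := (act hp hr (hZ ht)).2 b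
      rw [hall t ht, one_mul, mul_inv_eq_iff_eq_mul] at h2
      exact h2
    rw [h1]
    symm
    refine Nat.card_congr (Equiv.ofBijective (fun b => ⟨xc hp (vec D l r) b, (hmem _).2 ⟨b, rfl⟩⟩) ⟨?_, ?_⟩)
    · intro b b' e
      exact hinj (congrArg Subtype.val e)
    · rintro ⟨x, hx⟩
      obtain ⟨b, rfl⟩ := (hmem x).1 hx
      exact ⟨b, rfl⟩
  · left
    push Not at hall
    obtain ⟨t, ht, hne⟩ := hall
    have h1 : XX D l K (vec D l r) ⊓ Subgroup.centralizer Z = ⊥ := by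
      rw [eq_bot_iff]
      rintro x ⟨hx, hx'⟩
      obtain ⟨b, rfl⟩ := (hmem x).1 hx
      have h2 := (act hp hr (hZ ht)).2 b
      have h3 := Subgroup.mem_centralizer_iff.1 hx' t ht
      rw [h3, mul_inv_cancel_right] at h2
      have h4 := hinj h2
      have hb : b = 0 := by
        by_contra hb
        apply hne
        have h5 : (ch hp (vec D l r) t - 1) * b = 0 := by rw [sub_mul, one_mul, ← h4, sub_self]
        rcases mul_eq_zero.1 h5 with h6 | h6
        · exact sub_eq_zero.1 h6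
        · exact absurd h6 hb
      rw [hb, (C.coord _ ha).zero]
      exact Subgroup.one_mem _
    rw [h1, Subgroup.card_bot]

end Fin

variable {k : Type u} [Field k] [IsAlgClosed k] [CharP k p]

/-- the group of a finite subfield inside `D.group k` -/
noncomputable def up (m : ℕ) : ↥(D.group ↥(EE p m : Subfield k)) →* ↥(D.group k) :=
  ((glm D (EE p m)).comp (D.group ↥(EE p m : Subfield k)).subtype).codRestrict (D.group k) fun x =>
    map_group_le hp p ⟨(x : GL D.Idx ↥(EE p m : Subfield k)), x.2, rfl⟩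

theorem up_injective (m : ℕ) : Function.Injective (up (k := k) hp p m) := by
  intro x y h
  apply Subtype.ext
  apply glm_injective (EE p m)
  exact congrArg Subtype.val h

include hp in
/-- **A toral subgroup of small index.** -/
theorem exists_toral_k (hk : HAlg p k) (B : Subgroup ↥(D.group k)) [Finite ↥B]
    (hcomm : ∀ x ∈ B, ∀ y ∈ B, x * y = y * x) (hB : ¬ p ∣ Nat.card ↥B) :
    ∃ (B₀ : Subgroup ↥(D.group k)) (y : ↥(D.group k)) (m : ℕ), B₀ ≤ B ∧ (∀ x ∈ B₀, y * x * y⁻¹ ∈ TT D k) ∧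
      Nat.card ↥B = Nat.card ↥B₀ * m ∧ m ∣ Nat.card M.Group := by
  classical
  have hpp : p.Prime := Fact.out
  have hW := finite_W hp (M.toCoxeterSystem)
  have hW0 : Nat.card M.Group ≠ 0 := Nat.card_pos.ne'
  set q := Nat.card ↥B with hqdef
  have hq0 : q ≠ 0 := Nat.card_pos.ne'
  set e := Nat.card M.Group with hedef
  have hcop : p.Coprime (q ^ (e + 1)) :=
    Nat.Coprime.pow_right _ ((Nat.Prime.coprime_iff_not_dvd hpp).2 hB)
  -- the level
  have hlev : ∀ x : ↥B, ∃ m, 0 < m ∧ ((x : ↥(D.group k)) : GL D.Idx k) ∈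
      (D.group ↥(EE p m : Subfield k)).map (glm D (EE p m)) := fun x => exists_level hp p hk x.1.2
  choose m hm hmx using hlev
  have := Fintype.ofFinite ↥B
  set m0 := ∏ x : ↥B, m x with hm0def
  have hm0 : 0 < m0 := Finset.prod_pos fun x _ => hm x
  set N := m0 * (q ^ (e + 1)).totient with hNdef
  have hN : 0 < N := Nat.mul_pos hm0 (Nat.totient_pos.2 (pow_pos (Nat.pos_of_ne_zero hq0) _))
  have hpN : p ^ N ≡ 1 [MOD q ^ (e + 1)] := by
    rw [hNdef, mul_comm, pow_mul]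
    have := (Nat.ModEq.pow_totient hcop).pow m0
    rwa [one_pow] at this
  have hrange : ∀ x : ↥(D.group k), x ∈ B → ∃ x', up hp p N x' = x := by
    intro x hx
    have h1 : m ⟨x, hx⟩ ∣ N := (Finset.dvd_prod_of_mem m (Finset.mem_univ _)).trans (Dvd.intro _ rfl)
    obtain ⟨x', hx', e'⟩ := map_group_mono hp p h1 (hmx ⟨x, hx⟩)
    exact ⟨⟨x', hx'⟩, Subtype.ext e'⟩
  have hfinN : Finite ↥(EE p N : Subfield k) := finite_EE p hN
  have : CharP ↥(EE p N : Subfield k) p := charP_fixF p _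
  have : Finite (GL D.Idx ↥(EE p N : Subfield k)) := inferInstance
  have hGfin : Finite ↥(D.group ↥(EE p N : Subfield k)) := inferInstance
  have R := rgd (K := ↥(EE p N : Subfield k)) hp M.toCoxeterSystem p
  have hG := GG_eq_top (T := TT D ↥(EE p N : Subfield k)) (G1_eq_top (K := ↥(EE p N : Subfield k)) hp M.toCoxeterSystem)
  have hcardK : Nat.card ↥(EE p N : Subfield k) = p ^ N := card_EE p hN
  set B' : Subgroup ↥(D.group ↥(EE p N : Subfield k)) := B.comap (up hp p N) with hB'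
  have hmapB : B'.map (up hp p N) = B := by
    apply le_antisymm (Subgroup.map_comap_le _ _)
    intro x hx
    obtain ⟨x', rfl⟩ := hrange x hx
    exact ⟨x', hx, rfl⟩
  have hcardB : Nat.card ↥B' = q := by
    have h0 : Nat.card ↥(B'.map (up hp p N)) = Nat.card ↥B' :=
      Nat.card_congr (B'.equivMapOfInjective (up hp p N) (up_injective hp p N)).toEquiv.symm
    rw [← h0, hmapB]
  obtain ⟨B₀, S, m', h1, h2, h3, h4⟩ := TorFin.exists_toral R hG q B' hcardB
    (fun x hx y hy => up_injective hp p N (by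
      rw [map_mul, map_mul]
      exact hcomm _ hx _ hy)) hB (by
    intro s hs hsq Z hZ a ha
    have hle : (Nat.card M.Group).factorization s + 1 ≤ e + 1 :=
      Nat.succ_le_succ (Nat.factorization_lt s hW0).le
    have hmod : p ^ N ≡ 1 [MOD s ^ ((Nat.card M.Group).factorization s + 1)] :=
      hpN.of_dvd ((pow_dvd_pow s hle).trans (pow_dvd_pow_of_dvd hsq _))
    rcases card_root_centralizer (l := l) hp p M.toCoxeterSystem hZ ha with h5 | h5
    · rw [h5]
    · rw [h5, hcardK]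
      exact hmod)
  have hB0q : ¬ p ∣ Nat.card ↥B₀ := fun hd => hB (hd.trans (Dvd.intro _ h3.symm))
  obtain ⟨y, hy⟩ := TorFin.exists_conj_le_T' R hG hB0q (S := S) (fun x hx => h2 x hx)
  refine ⟨B₀.map (up hp p N), up hp p N y, m', ?_, ?_, ?_, h4⟩
  · rw [← hmapB]
    exact Subgroup.map_mono h1
  · rintro _ ⟨x, hx, rfl⟩
    rw [← map_inv, ← map_mul, ← map_mul]
    exact glm_diag hp (EE p N) (hy x hx)
  · have h0 : Nat.card ↥(B₀.map (up hp p N)) = Nat.card ↥B₀ :=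
      Nat.card_congr (B₀.equivMapOfInjective (up hp p N) (up_injective hp p N)).toEquiv.symm
    rw [h0]
    exact h3

end Cfsg.Agent.H197.Ab.TorLift
end

private theorem dce_6f2ce79836f1 : _root_.True := by
  try have : _root_.True := by simp only [_root_.Cfsg.Agent.KFacts.RgdChevCoord.ch.congr_simp]
  exact _root_.True.intro
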